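import Groth.Agent.SyntLCI.MorFibre
import Groth.Agent.SyntLCI.BaseChange
import Groth.Agent.FlatLocalDepth.Basic
import Mathlib.Algebra.Module.SpanRankOperations
import Mathlib.RingTheory.Nakayama

/-!
# Descent of complete intersections along flat local maps and field extensions
-/

set_option autoImplicit false

noncomputable section

universe u

open IsLocalRing TensorProduct

namespace Groth.Agent.GrpSyntomic

open SyntLCI

/-- If an extended ideal has `c` generators, then so has the ideal, extended. -/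
theorem exists_gens_of_map {R S : Type u} [CommRing R] [CommRing S] [IsLocalRing S] (f : R →+* S) (J : Ideal R)
    (c : ℕ) (a : Fin c → S) (ha : Ideal.span (Set.range a) = J.map f) :
    ∃ (c' : ℕ) (b : Fin c' → R), c' ≤ c ∧ (∀ i, b i ∈ J) ∧
      (Ideal.span (Set.range b)).map f = J.map f := by
  classical
  let N : Submodule S S := J.map f
  have hfg : N.FG := by
    rw [show N = Ideal.span (Set.range a) from ha.symm]
    exact Submodule.fg_span (Set.finite_range a)
  let κ := S ⧸ maximalIdeal S
  let : Field κ := Ideal.Quotient.field _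
  let Q := N ⧸ (maximalIdeal S • (⊤ : Submodule S N))
  let G : Set N := {y | ∃ x ∈ J, f x = (y : S)}
  have hG : Submodule.span S G = ⊤ := by
    apply Submodule.map_injective_of_injective (f := N.subtype) (Submodule.injective_subtype N)
    rw [Submodule.map_span, Submodule.map_top, Submodule.range_subtype]
    have : N.subtype '' G = f '' (J : Set R) := by
      ext z
      constructor
      · rintro ⟨y, ⟨x, hx, hxy⟩, rfl⟩; exact ⟨x, hx, hxy⟩
      · rintro ⟨x, hx, rfl⟩; exact ⟨⟨f x, Ideal.mem_map_of_mem f hx⟩, ⟨x, hx, rfl⟩, rfl⟩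
    rw [this]; rfl
  let mk : N →ₗ[S] Q := Submodule.mkQ _
  have hspan : Submodule.span κ (mk '' G) = ⊤ := by
    rw [← Submodule.restrictScalars_eq_top_iff S, Submodule.restrictScalars_span _ _ Ideal.Quotient.mk_surjective,
      ← Submodule.map_span, hG, Submodule.map_top, Submodule.range_mkQ]
  have : Module.Finite S N := Module.Finite.iff_fg.2 hfg
  have : Module.Finite κ Q := Module.Finite.of_restrictScalars_finite S κ Q
  obtain ⟨t, hts, hcard, htspan, -⟩ := Submodule.exists_finset_span_eq_linearIndepOn κ (mk '' G)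
  have hct : t.card ≤ c := by
    rw [hcard]
    calc Module.finrank κ (Submodule.span κ (mk '' G)) = Module.finrank κ Q := by rw [hspan, finrank_top]
      _ = N.spanFinrank := (IsLocalRing.spanFinrank_eq_finrank_quotient N hfg).symm
      _ ≤ c := by
        rw [show N = Submodule.span S (Set.range a) from ha.symm]
        refine (Submodule.spanFinrank_span_le_ncard_of_finite (Set.finite_range a)).trans ?_
        rw [← Set.image_univ]
        exact (Set.ncard_image_le (Set.finite_univ)).trans_eq (by simp [Set.ncard_univ])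
  choose y hy hyq using fun q : t => hts q.2
  choose x hx hxy using hy
  let e := t.equivFin
  refine ⟨t.card, fun i => x (e.symm i), hct, fun i => hx _, le_antisymm ?_ ?_⟩
  · exact Ideal.map_mono (Ideal.span_le.2 (by rintro _ ⟨i, rfl⟩; exact hx _))
  · have hle : Submodule.span S (Set.range y) ⊔ maximalIdeal S • (⊤ : Submodule S N) = ⊤ := by
      have h1 : Submodule.map mk (Submodule.span S (Set.range y)) = ⊤ := by
        rw [Submodule.map_span, show mk '' Set.range y = (t : Set Q) by
          ext q; constructor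
          · rintro ⟨_, ⟨q', rfl⟩, rfl⟩; rw [hyq]; exact q'.2
          · intro hq; exact ⟨y ⟨q, hq⟩, ⟨_, rfl⟩, hyq ⟨q, hq⟩⟩]
        have h2 := congrArg (Submodule.restrictScalars S) (htspan.trans hspan)
        rwa [Submodule.restrictScalars_span _ _ Ideal.Quotient.mk_surjective, Submodule.restrictScalars_top] at h2
      have h3 := congrArg (Submodule.comap mk) h1
      rwa [Submodule.comap_map_eq, Submodule.ker_mkQ, Submodule.comap_top] at h3
    have htop : Submodule.span S (Set.range y) = ⊤ := by
      rw [eq_top_iff]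
      refine Submodule.le_of_le_smul_of_le_jacobson_bot ((Submodule.fg_top _).2 hfg) ?_ hle.ge
      exact IsLocalRing.maximalIdeal_le_jacobson _
    have h4 := congrArg (Submodule.map N.subtype) htop
    rw [Submodule.map_span, Submodule.map_top, Submodule.range_subtype] at h4
    show N ≤ _
    rw [← h4, Submodule.span_le]
    rintro _ ⟨_, ⟨q, rfl⟩, rfl⟩
    rw [Submodule.subtype_apply, ← hxy]
    exact Ideal.mem_map_of_mem f (Ideal.subset_span ⟨e q, by simp⟩)

theorem fibre_ne_top {R S : Type u} [CommRing R] [IsLocalRing R] [CommRing S] [IsLocalRing S] [Algebra R S]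
    [IsLocalHom (algebraMap R S)] : (maximalIdeal R).map (algebraMap R S) ≠ ⊤ :=
  ne_top_of_le_ne_top (maximalIdeal.isMaximal S).ne_top
    (((local_hom_TFAE (algebraMap R S)).out 0 2 rfl rfl).1 inferInstance)

/-- Dimension of the quotient by an extended ideal. -/
theorem dim_quot_add {R S : Type u} [CommRing R] [IsLocalRing R] [IsNoetherianRing R] [CommRing S]
    [IsLocalRing S] [IsNoetherianRing S] [Algebra R S] [IsLocalHom (algebraMap R S)] [Module.Flat R S]
    (J : Ideal R) (hJ : J ≠ ⊤) (hne : J.map (algebraMap R S) ≠ ⊤) :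
    ringKrullDim (S ⧸ J.map (algebraMap R S)) =
      ringKrullDim (R ⧸ J) + ringKrullDim (S ⧸ (maximalIdeal R).map (algebraMap R S)) := by
  have := isLocalRing_quotient hJ
  have := isLocalRing_quotient hne
  let φ : R ⧸ J →+* S ⧸ J.map (algebraMap R S) := Ideal.quotientMap _ (algebraMap R S) Ideal.le_comap_map
  let := φ.toAlgebra
  have : IsLocalHom (algebraMap (R ⧸ J) (S ⧸ J.map (algebraMap R S))) := by
    refine ((local_hom_TFAE _).out 0 2 rfl rfl).2 ?_
    rw [← IsLocalRing.map_maximalIdeal_of_surjective (Ideal.Quotient.mk J) Ideal.Quotient.mk_surjective,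
      Ideal.map_map, show (algebraMap (R ⧸ J) (S ⧸ J.map (algebraMap R S))).comp (Ideal.Quotient.mk J) =
        (Ideal.Quotient.mk _).comp (algebraMap R S) from rfl, ← Ideal.map_map,
      ← IsLocalRing.map_maximalIdeal_of_surjective (Ideal.Quotient.mk (J.map (algebraMap R S))) Ideal.Quotient.mk_surjective]
    exact Ideal.map_mono (((local_hom_TFAE (algebraMap R S)).out 0 2 rfl rfl).1 inferInstance)
  have : Module.Flat (R ⧸ J) (S ⧸ J.map (algebraMap R S)) := by
    let e : ((R ⧸ J) ⊗[R] S) ≃+* (S ⧸ J.map (algebraMap R S)) :=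
      (Algebra.TensorProduct.comm R (R ⧸ J) S).toRingEquiv.trans
        (Algebra.TensorProduct.quotIdealMapEquivTensorQuot S J).symm.toRingEquiv
    have h1 : (algebraMap (R ⧸ J) ((R ⧸ J) ⊗[R] S)).Flat := RingHom.flat_algebraMap_iff.2 inferInstance
    have h2 := RingHom.Flat.respectsIso.1 _ e h1
    refine RingHom.flat_algebraMap_iff.1 ?_
    convert h2 using 1
    refine Ideal.Quotient.ringHom_ext (RingHom.ext fun r => ?_)
    show Ideal.Quotient.mk _ (algebraMap R S r) = e ((Ideal.Quotient.mk J r) ⊗ₜ[R] (1 : S))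
    rw [show (Ideal.Quotient.mk J r) ⊗ₜ[R] (1 : S) = (1 : R ⧸ J) ⊗ₜ[R] algebraMap R S r by
      rw [Algebra.algebraMap_eq_smul_one (A := S) r, ← TensorProduct.smul_tmul]
      congr 1
      simp [Algebra.smul_def]]
    simp [e]
    rw [← map_one (Ideal.Quotient.mk J), Algebra.TensorProduct.quotIdealMapEquivTensorQuot_symm_tmul]
    simp
  have h := FlatLocalDepth.ringKrullDim_eq_add (R ⧸ J) (S ⧸ J.map (algebraMap R S))
  rw [h]
  congr 1
  have hm : (maximalIdeal (R ⧸ J)).map (algebraMap (R ⧸ J) (S ⧸ J.map (algebraMap R S))) =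
      ((maximalIdeal R).map (algebraMap R S)).map (Ideal.Quotient.mk _) := by
    rw [← IsLocalRing.map_maximalIdeal_of_surjective (Ideal.Quotient.mk J) Ideal.Quotient.mk_surjective,
      Ideal.map_map, Ideal.map_map]
    rfl
  rw [hm]
  exact ringKrullDim_eq_of_ringEquiv (DoubleQuot.quotQuotEquivQuotOfLE (Ideal.map_mono (le_maximalIdeal hJ)))

/-- Complete intersection ideals descend along flat local homomorphisms. -/
theorem isCIIdeal_of_flat_local {R S : Type u} [CommRing R] [IsRegularLocalRing R] [CommRing S]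
    [IsRegularLocalRing S] [Algebra R S] [IsLocalHom (algebraMap R S)] [Module.Flat R S] {J : Ideal R}
    (hJ : J ≠ ⊤) (h : IsCIIdeal (J.map (algebraMap R S))) : IsCIIdeal J := by
  have : Module.FaithfullyFlat R S := Module.FaithfullyFlat.of_flat_of_isLocalHom
  obtain ⟨hne, l, hl, hreg⟩ := h
  obtain ⟨d, hd⟩ := CAlgReg.exists_dim (R := R)
  obtain ⟨D, hD⟩ := CAlgReg.exists_dim (R := S)
  obtain ⟨e, he⟩ := exists_dim_quotient hJ
  obtain ⟨E, hE⟩ := exists_dim_quotient hne
  have hc : E + l.length = D := (isWeaklyRegular_iff_dim (hl ▸ hne) hD (by rw [hl]; exact hE)).1 hreg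
  obtain ⟨c', b, hc', hb, hbJ⟩ := exists_gens_of_map (algebraMap R S) J l.length l.get
    ((ofList_ofFn' l.get).symm.trans (by rw [List.ofFn_get, hl]))
  have hspan : Ideal.span (Set.range b) = J := by
    rw [← Ideal.comap_map_eq_self_of_faithfullyFlat (B := S) (Ideal.span (Set.range b)), hbJ,
      Ideal.comap_map_eq_self_of_faithfullyFlat (B := S) J]
  refine (isCIIdeal_iff_dim hJ hd he).2 ⟨c', b, hspan, ?_⟩
  obtain ⟨F, hF⟩ := exists_dim_quotient (fibre_ne_top (R := R) (S := S))
  have h1 := FlatLocalDepth.ringKrullDim_eq_add R S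
  rw [hD, hd, hF] at h1
  have h2 : ringKrullDim (S ⧸ J.map (algebraMap R S)) = ringKrullDim (R ⧸ J) + ringKrullDim (S ⧸ (maximalIdeal R).map (algebraMap R S)) :=
    dim_quot_add J hJ hne
  rw [hE, he, hF] at h2
  norm_cast at h1 h2
  omega

end Groth.Agent.GrpSyntomic

namespace Groth.Agent.GrpSyntomic

open SyntLCI MvPolynomial

theorem isSyntomic_field_iff (k T : Type u) [Field k] [CommRing T] [Algebra k T] :
    Synt.IsSyntomic k T ↔ LCI.IsLCI k T :=
  ⟨fun h => ((SyntLCI.isSyntomic_iff k T).1 h).2, fun h => (SyntLCI.isSyntomic_iff k T).2 ⟨inferInstance, h⟩⟩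

/-- Local complete intersections descend along field extensions. -/
theorem isSyntomic_of_field_extension (K K' T : Type u) [Field K] [Field K'] [Algebra K K'] [CommRing T]
    [Algebra K T] [Algebra.FiniteType K T] (h : Synt.IsSyntomic K' (K' ⊗[K] T)) : Synt.IsSyntomic K T := by
  rw [isSyntomic_field_iff] at h ⊢
  obtain ⟨n, φ, hφ⟩ := exists_pres K T
  refine ⟨inferInstance, n, φ, hφ, isKoszulRegularIdeal_of_ci _ fun m _ hm => ?_⟩
  obtain ⟨c, F, hF⟩ := Submodule.fg_iff_exists_fin_generating_family.1
    (IsNoetherian.noetherian (RingHom.ker φ.toRingHom))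
  have hI : RingHom.ker φ.toRingHom = Ideal.span (Set.range F) := hF.symm
  let eT : Synt.RelGCIRing K n c F ≃ₐ[K] T :=
    (Ideal.quotientEquivAlgOfEq K hI.symm).trans (Ideal.quotientKerAlgEquivOfSurjective hφ)
  let F' : Fin c → MvPolynomial (Fin n) K' := fun i => MvPolynomial.map (algebraMap K K') (F i)
  obtain ⟨e⟩ := exists_tensor_pres K' F
  let E : K' ⊗[K] T ≃ₐ[K'] Synt.RelGCIRing K' n c F' :=
    (Algebra.TensorProduct.congr AlgEquiv.refl eT.symm).trans e
  let φ' : MvPolynomial (Fin n) K' →ₐ[K'] K' ⊗[K] T := E.symm.toAlgHom.comp (Ideal.Quotient.mkₐ K' _)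
  have hφ' : Function.Surjective φ' := E.symm.surjective.comp Ideal.Quotient.mk_surjective
  have hI' : RingHom.ker φ'.toRingHom = (RingHom.ker φ.toRingHom).map (MvPolynomial.map (algebraMap K K')) := by
    rw [hI, Ideal.map_span, ← Set.range_comp]
    ext x
    rw [RingHom.mem_ker]
    show E.symm (Ideal.Quotient.mk _ x) = 0 ↔ _
    rw [map_eq_zero_iff _ E.symm.injective, Ideal.Quotient.eq_zero_iff_mem]
    rfl
  let := (MvPolynomial.map (σ := Fin n) (algebraMap K K')).toAlgebra
  have : Module.FaithfullyFlat (MvPolynomial (Fin n) K) (MvPolynomial (Fin n) K') := by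
    have h1 : (Algebra.TensorProduct.includeRight : MvPolynomial (Fin n) K →ₐ[K] K' ⊗[K] MvPolynomial (Fin n) K).toRingHom.FaithfullyFlat := by
      have h2 : (algebraMap (MvPolynomial (Fin n) K) ((MvPolynomial (Fin n) K) ⊗[K] K')).FaithfullyFlat :=
        RingHom.faithfullyFlat_algebraMap_iff.2 inferInstance
      exact RingHom.FaithfullyFlat.respectsIso.1 _ (Algebra.TensorProduct.comm K _ K').toRingEquiv h2
    have h3 := RingHom.FaithfullyFlat.respectsIso.1 _ (MvPolynomial.algebraTensorAlgEquiv K K' (σ := Fin n)).toRingEquiv h1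
    refine RingHom.faithfullyFlat_algebraMap_iff.1 ?_
    convert h3 using 1
    exact RingHom.ext fun x => (MvPolynomial.algebraTensorAlgEquiv_tmul K K' (1 : K') x).trans (one_smul _ _) |>.symm
  obtain ⟨⟨q, hq⟩, hqm⟩ := PrimeSpectrum.comap_surjective_of_faithfullyFlat
    (A := MvPolynomial (Fin n) K) (B := MvPolynomial (Fin n) K') ⟨m, inferInstance⟩
  have hqm' : q.comap (algebraMap _ _) = m := congrArg PrimeSpectrum.asIdeal hqm
  have hle : RingHom.ker φ'.toRingHom ≤ q := by
    rw [hI', Ideal.map_le_iff_le_comap]; exact hm.trans hqm'.ge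
  have : (q.map φ'.toRingHom).IsPrime := Ideal.map_isPrime_of_surjective hφ' hle
  have hq' : (q.map φ'.toRingHom).comap φ'.toRingHom = q := by
    refine (Ideal.comap_map_of_surjective φ'.toRingHom hφ' q).trans ?_
    rw [← RingHom.ker_eq_comap_bot]
    exact sup_eq_left.2 hle
  have h1 := (isCIOver_atPrime_iff φ' hφ' (q.map φ'.toRingHom)).1
    (((isLCI_iff K' (K' ⊗[K] T)).1 h).2 ⟨_, this⟩)
  have h2 : IsCIIdeal ((RingHom.ker φ'.toRingHom).map (algebraMap _ (Localization.AtPrime q))) := by
    have key : ∀ (p : Ideal (MvPolynomial (Fin n) K')) [p.IsPrime], p = q →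
        IsCIIdeal ((RingHom.ker φ'.toRingHom).map (algebraMap _ (Localization.AtPrime p))) →
        IsCIIdeal ((RingHom.ker φ'.toRingHom).map (algebraMap _ (Localization.AtPrime q))) := by
      rintro p _ rfl h; exact h
    exact key _ hq' h1
  let g : Localization.AtPrime m →+* Localization.AtPrime q := Localization.localRingHom m q (algebraMap _ _) hqm'.symm
  let := g.toAlgebra
  have : IsLocalHom (algebraMap (Localization.AtPrime m) (Localization.AtPrime q)) :=
    Localization.isLocalHom_localRingHom m q _ hqm'.symm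
  have : Module.Flat (Localization.AtPrime m) (Localization.AtPrime q) := by
    refine RingHom.flat_algebraMap_iff.1 ?_
    exact RingHom.Flat.localRingHom (RingHom.flat_algebraMap_iff.2 inferInstance) ..
  refine isCIIdeal_of_flat_local (S := Localization.AtPrime q) ?_ ?_
  · exact fun h => (IsLocalRing.maximalIdeal.isMaximal _).ne_top (top_le_iff.1 (h ▸ map_le_maximal hm))
  · convert h2 using 1
    rw [hI', Ideal.map_map, Ideal.map_map]
    congr 1
    exact RingHom.ext fun x => Localization.localRingHom_to_map m q _ hqm'.symm x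

end Groth.Agent.GrpSyntomic
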