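import Groth.Agent.GrpSyntomic.Local
import Groth.Agent.GorenBasic.FlatLocal
import Groth.Agent.GorenBasic.Basic
import Groth.Agent.GorenBasic.TrivialFibre
import Groth.Agent.FlatLocalDepth.FibreStalk
import Groth.Agent.DimFormula.Scheme
import Groth.Prelude.Def_Dual3
import Mathlib.RingTheory.KrullDimension.Polynomial

/-!
# Group schemes over Gorenstein rings are Gorenstein
-/

set_option autoImplicit false
set_option backward.isDefEq.respectTransparency.types false

universe u

open CategoryTheory MonoidalCategory CartesianMonoidalCategory MonObj GrpObj Limits AlgebraicGeometry IsLocalRing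

namespace Groth.Agent.GrpSyntomic

open SyntLCI GrpSch

theorem gorenstein_quotient_ofList : ∀ (n : ℕ) (R : Type u) [CommRing R] (rs : List R), rs.length = n →
    LocCoh.IsGorensteinLocalRing R → (∀ r ∈ rs, ¬ IsUnit r) → RingTheory.Sequence.IsWeaklyRegular R rs →
    LocCoh.IsGorensteinLocalRing (R ⧸ Ideal.ofList rs) := by
  intro n
  induction n with
  | zero =>
    intro R _ rs hn hR _ _
    rw [List.length_eq_zero_iff.1 hn, Ideal.ofList_nil]
    exact GorenSG.gorenstein_of_ringEquiv (RingEquiv.quotientBot R) hR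
  | succ n ih =>
    intro R _ rs hn hR hu hreg
    match rs, hn, hu, hreg with
    | f :: l, hn, hu, hreg =>
      rw [RingTheory.Sequence.isWeaklyRegular_cons_iff] at hreg
      obtain ⟨hf, hl⟩ := hreg
      have hfm : f ∈ maximalIdeal R := hu f List.mem_cons_self
      have hG : LocCoh.IsGorensteinLocalRing (R ⧸ Ideal.span {f}) :=
        (GorenBasic.isGorensteinLocalRing_quotient_iff f hf hfm).mp hR
      let π := Ideal.Quotient.mk (Ideal.span {f})
      have hl' : RingTheory.Sequence.IsWeaklyRegular (R ⧸ Ideal.span {f}) (l.map π) := by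
        let e : QuotSMulTop f R ≃ₗ[R] R ⧸ Ideal.span {f} :=
          Submodule.quotEquivOfEq _ _ (by rw [← Submodule.ideal_span_singleton_smul, smul_eq_mul, Ideal.mul_top])
        exact (RingTheory.Sequence.isWeaklyRegular_map_algebraMap_iff (R ⧸ Ideal.span {f})
          (R ⧸ Ideal.span {f}) l).2 ((LinearEquiv.isWeaklyRegular_congr e l).1 hl)
      have hu' : ∀ r ∈ l.map π, ¬ IsUnit r := by
        intro r hr
        obtain ⟨x, hx, rfl⟩ := List.mem_map.1 hr
        exact fun h => hu x (List.mem_cons_of_mem f hx) (isUnit_of_isUnit_map π Ideal.Quotient.mk_surjective h)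
      have h := ih _ (l.map π) (by simpa using hn) hG hu' hl'
      have e1 : Ideal.ofList (l.map π) = (Ideal.ofList l).map π := (Ideal.map_ofList π l).symm
      refine GorenSG.gorenstein_of_ringEquiv ((Ideal.quotEquivOfEq e1).trans
        ((DoubleQuot.quotQuotEquivQuotSup (Ideal.span {f}) (Ideal.ofList l)).trans
          (Ideal.quotEquivOfEq (Ideal.ofList_cons f l).symm))).symm h

theorem gorenstein_of_isCIOver {k S : Type u} [Field k] [CommRing S] [Algebra k S] [IsLocalRing S]
    (h : Synt.IsCIOver k S) : LocCoh.IsGorensteinLocalRing S := by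
  obtain ⟨R, _, _, _, _, rs, hmem, hreg, ⟨e⟩⟩ := h
  exact GorenSG.gorenstein_of_ringEquiv e.toRingEquiv
    (gorenstein_quotient_ofList _ R rs rfl (GorenBasic.isGorensteinLocalRing_of_isRegularLocalRing R)
      (fun r hr => hmem r hr) hreg.toIsWeaklyRegular)

/-- Local rings of group schemes over a field are Gorenstein. -/
theorem isGorensteinLocalRing_stalk {K : Type u} [Field K] (G : Over (Spec (CommRingCat.of K))) [GrpObj G]
    [LocallyOfFiniteType G.hom] (x : G.left) : LocCoh.IsGorensteinLocalRing (G.left.presheaf.stalk x) := by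
  obtain ⟨_, ⟨U, hU, rfl⟩, hxU, -⟩ := G.left.isBasis_affineOpens.exists_subset_of_mem_open
    (Set.mem_univ x) isOpen_univ
  have h1 := HasRingHomProperty.appLE synMor G.hom (synMor_of_lft G) ⟨⊤, isAffineOpen_top _⟩ ⟨U, hU⟩ le_top
  let φ : K →+* Γ(G.left, U) := ((Scheme.ΓSpecIso (CommRingCat.of K)).inv ≫ G.hom.appLE ⊤ U le_top).hom
  let := φ.toAlgebra
  have h2 : Syn φ := (HasRingHomProperty.isLocal_ringHomProperty synMor).respectsIso.2 _
    (Scheme.ΓSpecIso (CommRingCat.of K)).symm.commRingCatIsoToRingEquiv h1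
  letI := (G.left.presheaf.germ U x hxU).hom.toAlgebra
  have : IsLocalization.AtPrime (G.left.presheaf.stalk x) (hU.primeIdealOf ⟨x, hxU⟩).asIdeal :=
    hU.isLocalization_stalk ⟨x, hxU⟩
  exact GorenSG.gorenstein_of_ringEquiv
    (IsLocalization.algEquiv (hU.primeIdealOf ⟨x, hxU⟩).asIdeal.primeCompl
      (Localization.AtPrime (hU.primeIdealOf ⟨x, hxU⟩).asIdeal) (G.left.presheaf.stalk x)).toRingEquiv.symm
    (gorenstein_of_isCIOver (isCIOver_of_isLCIOver (isLCIOver_of_isSyntomic_field K Γ(G.left, U) h2) _))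

/-- Flat group schemes over a locally noetherian base with Gorenstein local rings are Gorenstein. -/
theorem isGorenstein_of_flat {S : Scheme.{u}} [IsLocallyNoetherian S]
    (hS : ∀ s : S, LocCoh.IsGorensteinLocalRing (S.presheaf.stalk s))
    (G : Over S) [GrpObj G] [Flat G.hom] [LocallyOfFiniteType G.hom] : Dual3.IsGorenstein G.left := by
  haveI : IsLocallyNoetherian G.left := LocallyOfFiniteType.isLocallyNoetherian G.hom
  refine ⟨inferInstance, fun x => ?_⟩
  let F : Over (Spec (CommRingCat.of (S.residueField (G.hom x)))) := Red.bc (S.fromSpecResidueField (G.hom x)) G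
  letI : GrpObj F := Red.grpObj_bc _ G
  haveI : LocallyOfFiniteType F.hom := MorphismProperty.pullback_snd _ _ inferInstance
  have hF := isGorensteinLocalRing_stalk F (G.hom.asFiber x)
  obtain ⟨e⟩ := FlatLocalDepth.nonempty_asFiber_stalk_equiv G.hom x
  have hq := GorenSG.gorenstein_of_ringEquiv e hF
  letI := (G.hom.stalkMap x).hom.toAlgebra
  haveI : Module.Flat (S.presheaf.stalk (G.hom x)) (G.left.presheaf.stalk x) := Flat.stalkMap G.hom x
  haveI : IsLocalHom (algebraMap (S.presheaf.stalk (G.hom x)) (G.left.presheaf.stalk x)) :=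
    inferInstanceAs (IsLocalHom (G.hom.stalkMap x).hom)
  exact GorenBasic.isGorensteinLocalRing_iff_flat.2 ⟨hS _, hq⟩

/-- Finite type schemes over a noetherian ring of finite dimension are finite dimensional. -/
theorem topologicalKrullDim_lt_top {R : Type u} [CommRing R] [IsNoetherianRing R] (hR : ringKrullDim R < ⊤)
    {X : Scheme.{u}} (f : X ⟶ Spec (CommRingCat.of R)) [LocallyOfFiniteType f] [QuasiCompact f] :
    topologicalKrullDim X < ⊤ := by
  haveI : CompactSpace X := QuasiCompact.compactSpace_of_compactSpace f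
  have key : ∀ U : X.affineOpens, ∃ d : ℕ, ringKrullDim Γ(X, U.1) ≤ d := fun U => by
    have h := LocallyOfFiniteType.finiteType_appLE f (isAffineOpen_top (Spec (CommRingCat.of R))) U.2 le_top
    let φ : R →+* Γ(X, U.1) := ((Scheme.ΓSpecIso (CommRingCat.of R)).inv ≫ f.appLE ⊤ U.1 le_top).hom
    have h' : φ.FiniteType := h.comp (RingHom.FiniteType.of_surjective _
      (Scheme.ΓSpecIso (CommRingCat.of R)).symm.commRingCatIsoToRingEquiv.surjective)
    let := φ.toAlgebra
    obtain ⟨n, g, hg⟩ := Algebra.FiniteType.iff_quotient_mvPolynomial''.1 (show Algebra.FiniteType R Γ(X, U.1) from h')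
    obtain ⟨d, hd⟩ : ∃ d : ℕ, ringKrullDim R ≤ d := by
      cases h0 : ringKrullDim R with
      | bot => exact ⟨0, bot_le⟩
      | coe e =>
        rw [h0] at hR
        cases e with
        | top => exact absurd hR (lt_irrefl _)
        | coe e => exact ⟨e, le_rfl⟩
    refine ⟨d + n, (ringKrullDim_le_of_surjective g.toRingHom hg).trans ?_⟩
    rw [MvPolynomial.ringKrullDim_of_isNoetherianRing, Nat.card_eq_fintype_card, Fintype.card_fin, Nat.cast_add]
    exact add_le_add hd le_rfl
  choose d hd using key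
  obtain ⟨t, ht⟩ := isCompact_univ.elim_finite_subcover (fun U : X.affineOpens => (U.1 : Set X))
    (fun U => U.1.2) (fun x _ => Set.mem_iUnion.2 (by
      obtain ⟨_, ⟨U, hU, rfl⟩, hxU, -⟩ := X.isBasis_affineOpens.exists_subset_of_mem_open (Set.mem_univ x) isOpen_univ
      exact ⟨⟨U, hU⟩, hxU⟩))
  rw [Groth.Agent.DimFormula.topologicalKrullDim_eq_iSup_stalk X]
  refine lt_of_le_of_lt (iSup_le fun x => ?_) (show ((t.sup d : ℕ) : WithBot ℕ∞) < ⊤ from
    WithBot.coe_lt_coe.2 (WithTop.coe_lt_top _))
  obtain ⟨U, hU⟩ := Set.mem_iUnion.1 (ht (Set.mem_univ x))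
  simp only [Set.mem_iUnion] at hU
  obtain ⟨hUt, hxU⟩ := hU
  letI := (X.presheaf.germ U.1 x hxU).hom.toAlgebra
  have : IsLocalization.AtPrime (X.presheaf.stalk x) (U.2.primeIdealOf ⟨x, hxU⟩).asIdeal :=
    U.2.isLocalization_stalk ⟨x, hxU⟩
  refine (ringKrullDim_localization_le (U.2.primeIdealOf ⟨x, hxU⟩).asIdeal.primeCompl _).trans ((hd U).trans ?_)
  exact_mod_cast Finset.le_sup (f := d) hUt

end Groth.Agent.GrpSyntomic
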