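import Groth.Agent.SyntLCI.Square
import Groth.Agent.SyntLCI.Comp
import Groth.Agent.SyntLCI.Base
import Groth.Agent.SyntLCI.MorFibre
import Groth.Agent.NormalQuot.Sub
import Groth.Agent.FinHopf.Truncated
import Mathlib.RingTheory.KrullDimension.Zero
import Mathlib.FieldTheory.Perfect

/-!
# Infinitesimal group schemes over a perfect field are complete intersections
-/

set_option autoImplicit false

noncomputable section

universe u

open TensorProduct

namespace Groth.Agent.GrpSyntomic

variable (k : Type u) [Field k] [PerfectField k] (p : ℕ) [Fact p.Prime] [CharP k p]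

/-- The subalgebra of `p`-th powers. -/
def powSub (A : Type u) [CommRing A] [Algebra k A] [CharP A p] : Subalgebra k A where
  __ := (frobenius A p).range.toSubsemiring
  algebraMap_mem' c := by
    haveI := PerfectField.toPerfectRing (K := k) p
    obtain ⟨d, hd⟩ := (PerfectRing.bijective_frobenius (R := k) (p := p)).2 c
    refine ⟨algebraMap k A d, ?_⟩
    show algebraMap k A d ^ p = algebraMap k A c
    rw [← map_pow]
    exact congrArg _ hd

lemma mem_powSub {A : Type u} [CommRing A] [Algebra k A] [CharP A p] {a : A} :
    a ∈ powSub k p A ↔ ∃ b, b ^ p = a := Iff.rfl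

lemma isHopfSubalgebra_powSub (A : Type u) [CommRing A] [HopfAlgebra k A] [CharP A p] :
    SGA3.IsHopfSubalgebra k A (powSub k p A) := by
  refine ⟨fun a ha => ?_, fun a ha => ?_⟩
  · obtain ⟨b, rfl⟩ := (mem_powSub k p).1 ha
    have : Nontrivial A := (Bialgebra.counitAlgHom k A).toRingHom.domain_nontrivial
    have hinj : Function.Injective (algebraMap k (A ⊗[k] A)) :=
      ((Algebra.TensorProduct.map (Bialgebra.counitAlgHom k A) (Bialgebra.counitAlgHom k A)).toRingHom.domain_nontrivial |>
        fun _ => (algebraMap k (A ⊗[k] A)).injective)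
    have : CharP (A ⊗[k] A) p := charP_of_injective_algebraMap hinj p
    let v := (powSub k p A).val
    have key : ∀ z : A ⊗[k] A, z ^ p ∈ (Algebra.TensorProduct.map v v).range := by
      intro z
      induction z with
      | zero => rw [zero_pow (Fact.out : p.Prime).ne_zero]; exact zero_mem _
      | tmul x y =>
        rw [Algebra.TensorProduct.tmul_pow]
        exact ⟨⟨x ^ p, x, rfl⟩ ⊗ₜ ⟨y ^ p, y, rfl⟩, rfl⟩
      | add x y hx hy => rw [add_pow_char]; exact add_mem hx hy
    obtain ⟨w, hw⟩ := key (Bialgebra.comulAlgHom k A b)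
    refine ⟨w, hw.trans ?_⟩
    exact (map_pow (Bialgebra.comulAlgHom k A) b p).symm
  · obtain ⟨b, rfl⟩ := (mem_powSub k p).1 ha
    exact (mem_powSub k p).2 ⟨HopfAlgebra.antipodeAlgHom k A b, (map_pow (HopfAlgebra.antipodeAlgHom k A) b p).symm⟩

omit [PerfectField k] in
/-- A truncated polynomial algebra is syntomic. -/
lemma isSyntomic_truncated {A : Type u} [CommRing A] [Algebra k A] [Module.Finite k A] (d : ℕ)
    (e : A ≃ₐ[k] (MvPolynomial (Fin d) k ⧸
      Ideal.span (Set.range fun i : Fin d => (MvPolynomial.X i : MvPolynomial (Fin d) k) ^ p))) :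
    Synt.IsSyntomic k A :=
  SyntLCI.isSyntomic_of_square (fun i : Fin d => (MvPolynomial.X i : MvPolynomial (Fin d) k) ^ p) e

/-- The fibre over a maximal ideal. -/
theorem exists_fibre_maximal {B A : Type u} [CommRing B] [CommRing A] [Algebra B A] (P : Ideal B) [P.IsMaximal] :
    Function.Surjective (fun a : A => ((1 : P.ResidueField) ⊗ₜ[B] a : P.Fiber A)) ∧
      ∀ a : A, ((1 : P.ResidueField) ⊗ₜ[B] a : P.Fiber A) = 0 ↔ a ∈ P.map (algebraMap B A) := by
  let j : (B ⧸ P) →ₗ[B] P.ResidueField := (IsScalarTower.toAlgHom B (B ⧸ P) P.ResidueField).toLinearMap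
  have hj : Function.Bijective j := P.bijective_algebraMap_quotient_residueField
  let E : A ⊗[B] (B ⧸ P) ≃ₗ[B] P.Fiber A :=
    (TensorProduct.comm B A (B ⧸ P)).trans ((LinearEquiv.ofBijective j hj).rTensor A)
  have hE : ∀ a : A, E (a ⊗ₜ 1) = (1 : P.ResidueField) ⊗ₜ[B] a := fun a => by
    simp [E, j]
  let Q := Algebra.TensorProduct.quotIdealMapEquivTensorQuot A P
  have hQ : ∀ a : A, Q (Ideal.Quotient.mk _ a) = a ⊗ₜ[B] (1 : B ⧸ P) := fun a => rfl
  refine ⟨fun z => ?_, fun a => ?_⟩
  · obtain ⟨a, ha⟩ := Ideal.Quotient.mk_surjective (Q.symm (E.symm z))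
    refine ⟨a, ?_⟩
    show ((1 : P.ResidueField) ⊗ₜ[B] a : P.Fiber A) = z
    rw [← hE, ← hQ, ha, AlgEquiv.apply_symm_apply, LinearEquiv.apply_symm_apply]
  · rw [← hE, LinearEquiv.map_eq_zero_iff, ← hQ, map_eq_zero_iff _ Q.injective, Ideal.Quotient.eq_zero_iff_mem]

include p in
/-- An infinitesimal group scheme over a perfect field is syntomic. -/
theorem isSyntomic_finite_local (n : ℕ) : ∀ (A : Type u) [CommRing A] [HopfAlgebra k A] [Module.Finite k A]
    [IsLocalRing A], Module.finrank k A ≤ n → Synt.IsSyntomic k A := by
  induction n with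
  | zero =>
    intro A _ _ _ _ h
    exact absurd (Module.finrank_pos (R := k) (M := A)) (by omega)
  | succ n ih =>
    intro A _ _ _ _ hn
    let ε := Bialgebra.counitAlgHom k A
    have : Nontrivial A := ε.toRingHom.domain_nontrivial
    have : CharP A p := charP_of_injective_algebraMap (algebraMap k A).injective p
    have : IsArtinianRing A := IsArtinianRing.of_finite k A
    have : Ring.KrullDimLE 0 A := Ring.KrullDimLE.mk₀ fun P _ => IsArtinianRing.isMaximal_of_isPrime P
    have hnil : ∀ a, ε a = 0 → IsNilpotent a := fun a ha =>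
      Ring.KrullDimLE.isNilpotent_iff_mem_maximalIdeal.2 ((IsLocalRing.mem_maximalIdeal a).2 fun h => by
        have := h.map ε
        rw [ha] at this
        exact not_isUnit_zero this)
    let B := powSub k p A
    let hB := isHopfSubalgebra_powSub k p A
    letI := NormalQuot.hopfSub B hB
    have : Module.FaithfullyFlat B A := NormalQuot.faithfullyFlat_sub B hB
    have : Module.Finite k B := Module.Finite.of_injective B.val.toLinearMap Subtype.val_injective
    have : Nontrivial B := B.val.toRingHom.domain_nontrivial
    have hBu : ∀ b : B, ε (b : A) ≠ 0 → IsUnit b := fun b hb => by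
      have h2 : IsNilpotent (b - algebraMap k B (ε b)) :=
        (IsNilpotent.map_iff (f := B.val) Subtype.val_injective).1 (hnil _ (by simp [ε]))
      simpa using h2.isUnit_add_left_of_commute ((Ne.isUnit hb).map (algebraMap k B)) (Commute.all _ _)
    have : IsLocalRing B := .of_nonunits_add fun a b ha hb h => by
      have ha' : ε (a : A) = 0 := not_not.1 fun h => ha (hBu a h)
      have hb' : ε (b : A) = 0 := not_not.1 fun h => hb (hBu b h)
      have := h.map (ε.comp B.val)
      simp [ha', hb'] at this
    let m : Ideal B := RingHom.ker (ε.comp B.val)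
    have hmax : m.IsMaximal := RingHom.ker_isMaximal_of_surjective _ fun c => ⟨algebraMap k B c, by simp⟩
    let J := Ideal.span ((fun a : A => a ^ p) '' (RingHom.ker ε.toRingHom : Set A))
    have hJ : m.map (algebraMap B A) = J := by
      refine le_antisymm (Ideal.map_le_iff_le_comap.2 fun b hb => ?_) (Ideal.span_le.2 ?_)
      · obtain ⟨a, ha⟩ := (mem_powSub k p).1 b.2
        have h0 : ε (b : A) = 0 := hb
        rw [← ha, map_pow] at h0
        exact Ideal.subset_span ⟨a, pow_eq_zero_iff (Fact.out : p.Prime).ne_zero |>.1 h0, ha⟩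
      · rintro _ ⟨a, ha, rfl⟩
        have ha' : ε a = 0 := ha
        exact Ideal.mem_map_of_mem (algebraMap B A) (show (⟨a ^ p, a, rfl⟩ : B) ∈ m by
          show ε (a ^ p) = 0
          rw [map_pow, ha', zero_pow (Fact.out : p.Prime).ne_zero])
    obtain ⟨eJ⟩ := Groth.Agent.FinHopf.nonempty_frobKer ε (Groth.Agent.FinHopf.isComul_comul k A) hnil p _ rfl
    have hAB : Synt.IsSyntomic B A := by
      refine ⟨inferInstance, ?_, fun P => ?_⟩
      · have : Module.Finite B A := Module.Finite.of_restrictScalars_finite k B A
        have : IsNoetherianRing B := isNoetherian_of_tower k (IsNoetherian.iff_fg.2 inferInstance)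
        have : Algebra.FiniteType B A := inferInstance
        exact Algebra.FinitePresentation.of_finiteType.1 this
      · have hP : P.asIdeal = m := by
          have : IsArtinianRing B := IsArtinianRing.of_finite k B
          have := IsArtinianRing.isMaximal_of_isPrime P.asIdeal
          exact (IsLocalRing.eq_maximalIdeal this).trans (IsLocalRing.eq_maximalIdeal hmax).symm
        have hbij : Function.Bijective (algebraMap k P.asIdeal.ResidueField) := by
          refine ⟨(algebraMap k _).injective, fun z => ?_⟩
          have : P.asIdeal.IsMaximal := hP ▸ hmax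
          obtain ⟨b, rfl⟩ := Ideal.algebraMap_residueField_surjective P.asIdeal z
          refine ⟨ε (b : A), ?_⟩
          rw [IsScalarTower.algebraMap_apply k B P.asIdeal.ResidueField, ← sub_eq_zero, ← map_sub,
            ← RingHom.mem_ker, Ideal.ker_algebraMap_residueField, hP]
          show ε ((algebraMap k B (ε (b : A)) - b : B) : A) = 0
          simp
        refine SyntLCI.isLCIOver_of_bijective (k := k) hbij
          (fun x => IsScalarTower.algebraMap_apply k P.asIdeal.ResidueField _ x) ?_
        have : Module.Finite k (P.asIdeal.Fiber A) := by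
          have : Module.Finite k P.asIdeal.ResidueField :=
            Module.Finite.of_surjective (Algebra.linearMap k P.asIdeal.ResidueField) hbij.2
          have : Module.Finite B A := Module.Finite.of_restrictScalars_finite k B A
          exact Module.Finite.trans P.asIdeal.ResidueField _
        -- the fibre is `A ⧸ J`
        have : P.asIdeal.IsMaximal := hP ▸ hmax
        let φ : A →ₐ[k] P.asIdeal.Fiber A := (Algebra.TensorProduct.includeRight).restrictScalars k
        have hφ : Function.Surjective φ := (exists_fibre_maximal P.asIdeal).1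
        have hker : RingHom.ker φ.toRingHom = J := by
          rw [← hJ, ← hP]
          exact Ideal.ext (exists_fibre_maximal P.asIdeal).2
        refine SyntLCI.isLCIOver_of_isSyntomic_field k _ (isSyntomic_truncated k p (Module.finrank k (RingHom.ker ε.toRingHom).Cotangent) ?_)
        exact ((Ideal.quotientKerAlgEquivOfSurjective hφ).symm.trans (Ideal.quotientEquivAlgOfEq k hker)).trans eJ
    by_cases hlt : Module.finrank k B < Module.finrank k A
    · exact SyntLCI.isSyntomic_trans k B A (ih B (by omega)) hAB
    · -- Frobenius is onto: `A` is trivial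
      have htop : ∀ a : A, ∃ b, b ^ p = a := fun a => by
        have : Function.Surjective B.val.toLinearMap :=
          (LinearMap.injective_iff_surjective_of_finrank_eq_finrank
            (le_antisymm (LinearMap.finrank_le_finrank_of_injective (f := B.val.toLinearMap) Subtype.val_injective)
              (not_lt.1 hlt))).1 Subtype.val_injective
        obtain ⟨b, hb⟩ := this a
        exact hb ▸ (mem_powSub k p).1 b.2
      have hall : ∀ (i : ℕ) (a : A), ∃ b, b ^ p ^ i = a := by
        intro i
        induction i with
        | zero => exact fun a => ⟨a, by simp⟩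
        | succ i ihh =>
          intro a
          obtain ⟨b, hb⟩ := ihh a
          obtain ⟨c, hc⟩ := htop b
          exact ⟨c, by rw [pow_succ', pow_mul, hc, hb]⟩
      have hinj : Function.Injective ε := (injective_iff_map_eq_zero ε).2 fun a ha => by
        obtain ⟨N, hN⟩ := IsArtinianRing.isNilpotent_nilradical (R := A)
        obtain ⟨b, hb⟩ := hall N a
        have hb0 : b ∈ nilradical A := by
          refine mem_nilradical.2 (hnil b ?_)
          rw [← hb, map_pow] at ha
          exact (pow_eq_zero_iff (pow_ne_zero _ (Fact.out : p.Prime).ne_zero)).1 ha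
        have hle : N ≤ p ^ N := (Nat.lt_pow_self (Fact.out : p.Prime).one_lt).le
        have : b ^ N = 0 := by
          have := Ideal.pow_mem_pow hb0 N
          rwa [hN] at this
        rw [← hb, ← Nat.sub_add_cancel hle, pow_add, this, mul_zero]
      let e : A ≃ₐ[k] k := AlgEquiv.ofBijective ε ⟨hinj, fun c => ⟨algebraMap k A c, by simp⟩⟩
      refine SyntLCI.isSyntomic_of_square (fun i : Fin 0 => i.elim0) (e.trans ?_)
      exact ((MvPolynomial.isEmptyAlgEquiv k (Fin 0)).symm.trans
        (AlgEquiv.quotientBot k _).symm).trans (Ideal.quotientEquivAlgOfEq k (by simp))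

end Groth.Agent.GrpSyntomic
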