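import Groth.Agent.GrpSyntomic.Descent
import Groth.Agent.GrpSyntomic.FiniteLocal
import Groth.Agent.GrpSch.AntiSmooth
import Groth.Agent.MultHopf.Bridge
import Groth.Agent.S9699
import Groth.Agent.S9365

/-!
# Group schemes of finite type over a field are syntomic
-/

set_option autoImplicit false
set_option backward.isDefEq.respectTransparency.types false

universe u

open CategoryTheory MonoidalCategory CartesianMonoidalCategory MonObj GrpObj Limits AlgebraicGeometry
open scoped TensorProduct

namespace Groth.Agent.GrpSyntomic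

open SyntLCI GrpSch

lemma syn_stableUnderBaseChange : RingHom.IsStableUnderBaseChange @Syn := by
  refine RingHom.IsStableUnderBaseChange.mk (syn_propertyIsLocal.respectsIso) ?_
  intro R S T _ _ _ _ _ h
  exact (syn_algebraMap _ _).2 (isSyntomic_baseChange ((syn_algebraMap _ _).1 h) S)

lemma syn_stableUnderComposition : RingHom.StableUnderComposition @Syn := by
  intro R S T _ _ _ f g hf hg
  let := f.toAlgebra
  let := g.toAlgebra
  let := (g.comp f).toAlgebra
  have : IsScalarTower R S T := .of_algebraMap_eq fun x => rfl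
  exact isSyntomic_trans R S T hf hg

instance : synMor.{u}.IsStableUnderBaseChange :=
  HasRingHomProperty.isStableUnderBaseChange syn_stableUnderBaseChange

instance : synMor.{u}.IsStableUnderComposition :=
  HasRingHomProperty.stableUnderComposition syn_stableUnderComposition

/-- affine case of descent -/
theorem synMor_spec_of_field_extension (K K' T : Type u) [Field K] [Field K'] [Algebra K K'] [CommRing T] [Algebra K T]
    [LocallyOfFiniteType (Spec.map (CommRingCat.ofHom (algebraMap K T)))]
    (h : synMor (pullback.snd (Spec.map (CommRingCat.ofHom (algebraMap K T)))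
      (Spec.map (CommRingCat.ofHom (algebraMap K K'))))) :
    synMor (Spec.map (CommRingCat.ofHom (algebraMap K T))) := by
  have hft : Algebra.FiniteType K T := RingHom.finiteType_algebraMap.1
    ((HasRingHomProperty.Spec_iff (P := @LocallyOfFiniteType) (φ := CommRingCat.ofHom (algebraMap K T))).1 inferInstance)
  rw [HasRingHomProperty.Spec_iff (P := synMor)]
  refine (syn_algebraMap _ _).2 (isSyntomic_of_field_extension K K' T ((syn_algebraMap _ _).1 ?_))
  rw [← CommRingCat.hom_ofHom (algebraMap K' (K' ⊗[K] T)), ← HasRingHomProperty.Spec_iff (P := synMor),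
    ← pullbackSpecIso_inv_fst', MorphismProperty.cancel_left_of_respectsIso synMor,
    ← pullbackSymmetry_hom_comp_snd, MorphismProperty.cancel_left_of_respectsIso synMor]
  exact h

theorem key {K K' : Type u} [Field K] [Field K'] {φ : K →+* K'} {R : CommRingCat.{u}}
    (g : Spec R ⟶ Spec (CommRingCat.of K)) (hft : LocallyOfFiniteType g)
    (h : synMor (pullback.snd g (Spec.map (CommRingCat.ofHom φ)))) : synMor g := by
  let := φ.toAlgebra
  obtain ⟨ψ, rfl⟩ := Spec.map_surjective g
  let := ψ.hom.toAlgebra
  exact synMor_spec_of_field_extension K K' R h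

/-- Syntomic over a field descends along field extensions. -/
theorem synMor_of_field_extension {K K' : Type u} [Field K] [Field K'] (φ : K →+* K') {X : Scheme.{u}}
    (f : X ⟶ Spec (CommRingCat.of K)) [LocallyOfFiniteType f]
    (h : synMor (pullback.snd f (Spec.map (CommRingCat.ofHom φ)))) : synMor f := by
  let := φ.toAlgebra
  rw [IsZariskiLocalAtSource.iff_of_openCover (P := synMor) X.affineCover]
  intro i
  have hft : LocallyOfFiniteType (X.affineCover.f i ≫ f) := inferInstance
  have h1 : synMor (pullback.snd (X.affineCover.f i ≫ f) (Spec.map (CommRingCat.ofHom φ))) := by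
    rw [← MorphismProperty.cancel_left_of_respectsIso synMor
      (pullbackRightPullbackFstIso f (Spec.map (CommRingCat.ofHom φ)) (X.affineCover.f i)).hom,
      pullbackRightPullbackFstIso_hom_snd]
    exact IsZariskiLocalAtSource.comp h _
  exact key (X.affineCover.f i ≫ f) hft h1

end Groth.Agent.GrpSyntomic

namespace Groth.Agent.GrpSyntomic

open SyntLCI GrpSch

/-- A group scheme with one point, of finite type over a perfect field, is syntomic. -/
theorem synMor_onePoint {k : Type u} [Field k] [PerfectField k] (p : ℕ) [Fact p.Prime] [CharP k p]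
    (K : Over (Spec (CommRingCat.of k))) [GrpObj K] [LocallyOfFiniteType K.hom] [QuasiCompact K.hom]
    [Subsingleton K.left] : synMor K.hom := by
  haveI : IsAffine K.left := by
    obtain ⟨x⟩ : Nonempty K.left := ⟨η[K].left (IsLocalRing.closedPoint k)⟩
    obtain ⟨_, ⟨U, hU, rfl⟩, hxU, -⟩ := K.left.isBasis_affineOpens.exists_subset_of_mem_open
      (Set.mem_univ x) isOpen_univ
    have : U = ⊤ := top_le_iff.1 fun y _ => Subsingleton.elim x y ▸ hxU
    subst this
    haveI : IsAffine (⊤ : K.left.Opens).toScheme := hU
    exact IsAffine.of_isIso (Scheme.topIso K.left).inv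
  obtain ⟨A, _, _, ⟨e⟩⟩ := MultHopf.exists_hopf k K
  let i : K.left ⟶ Spec (CommRingCat.of A) := e.hom.hom.hom.left
  haveI : IsIso i := inferInstanceAs (IsIso ((Grp.forget _ ⋙ Over.forget _).map e.hom))
  have hi : i ≫ Spec.map (CommRingCat.ofHom (algebraMap k A)) = K.hom := Over.w e.hom.hom.hom
  haveI : Subsingleton (PrimeSpectrum A) := (Scheme.homeoOfIso (asIso i)).symm.toEquiv.subsingleton
  have h1 : LocallyOfFiniteType (Spec.map (CommRingCat.ofHom (algebraMap k A))) :=
    (MorphismProperty.cancel_left_of_respectsIso @LocallyOfFiniteType i _).1 (hi ▸ inferInstance)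
  haveI : Algebra.FiniteType k A := RingHom.finiteType_algebraMap.1
    ((HasRingHomProperty.Spec_iff (P := @LocallyOfFiniteType) (φ := CommRingCat.ofHom (algebraMap k A))).1 h1)
  haveI : Nontrivial A := (Bialgebra.counitAlgHom k A).toRingHom.domain_nontrivial
  haveI : IsLocalRing A := by
    obtain ⟨m, hm⟩ := Ideal.exists_maximal A
    exact .of_unique_max_ideal ⟨m, hm, fun m' hm' => congrArg PrimeSpectrum.asIdeal
      (Subsingleton.elim (⟨m', hm'.isPrime⟩ : PrimeSpectrum A) ⟨m, hm.isPrime⟩)⟩
  haveI : IsNoetherianRing A := Algebra.FiniteType.isNoetherianRing k A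
  haveI : Ring.KrullDimLE 0 A := Ring.KrullDimLE.mk₀ fun P hP => by
    obtain ⟨m, hm, hle⟩ := Ideal.exists_le_maximal P hP.ne_top
    have : P = m := congrArg PrimeSpectrum.asIdeal (Subsingleton.elim (⟨P, hP⟩ : PrimeSpectrum A) ⟨m, hm.isPrime⟩)
    exact this ▸ hm
  haveI : IsArtinianRing A := isArtinianRing_iff_isNoetherianRing_krullDimLE_zero.2 ⟨inferInstance, inferInstance⟩
  haveI : Module.Finite k A := (Module.finite_iff_isArtinianRing k A).2 ‹_›
  rw [← hi, MorphismProperty.cancel_left_of_respectsIso synMor, HasRingHomProperty.Spec_iff (P := synMor)]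
  exact (syn_algebraMap k A).2 (isSyntomic_finite_local k p _ A le_rfl)

/-- A morphism with syntomic fibres. -/
theorem synMor_of_flat_of_fibres {X S : Scheme.{u}} (f : X ⟶ S) [Flat f] [LocallyOfFinitePresentation f]
    (h : ∀ s : S, synMor (f.fiberToSpecResidueField s)) : synMor f :=
  (isSyntomicMor_iff f).1 (Groth.Agent.S9365.result f fun s => (isSyntomicMor_iff _).2 (h s))

/-- Group schemes of finite type over an algebraically closed field are syntomic. -/
theorem synMor_of_isAlgClosed {k : Type u} [Field k] [IsAlgClosed k] (N : Over (Spec (CommRingCat.of k))) [GrpObj N]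
    [LocallyOfFiniteType N.hom] [QuasiCompact N.hom] : synMor N.hom := by
  rcases CharP.exists' k with hc | ⟨p, hp, hp'⟩
  · haveI := smooth_of_charZero N
    exact (isSyntomicMor_iff _).1 (Groth.Agent.S9699.result N.hom)
  haveI := hp
  haveI := hp'
  obtain ⟨H, _, i, _, _, _, _⟩ := AntiSmooth.exists_reduced_subgroup N
  haveI : LocallyOfFiniteType H.hom := by rw [← Over.w i]; infer_instance
  haveI : QuasiCompact H.hom := by rw [← Over.w i]; infer_instance
  obtain ⟨n, q, hq, hiq⟩ := AntiSmooth.exists_hom_to_reduced p N H i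
  haveI := AntiSmooth.charP_left p N
  haveI := AntiSmooth.charP_left p H
  haveI := AntiSmooth.isIso_frobN_spec p k n
  let H' := (AntiSmooth.twist p n).obj H
  letI : GrpObj H' := Red.grpObj_bc _ H
  haveI : IsMonHom q := hq
  let fr := pullback.fst H.hom (AntiSmooth.frobN p (Spec (CommRingCat.of k)) n)
  haveI : IsIso fr := MorphismProperty.pullback_fst (P := MorphismProperty.isomorphisms Scheme.{u}) _ _ ‹_›
  haveI : AlgebraicGeometry.IsReduced H'.left := isReduced_of_isOpenImmersion fr
  haveI : LocallyOfFiniteType H'.hom := MorphismProperty.pullback_snd (P := @LocallyOfFiniteType) _ _ inferInstance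
  haveI : QuasiCompact H'.hom := MorphismProperty.pullback_snd (P := @QuasiCompact) _ _ inferInstance
  haveI : IsSeparated H'.hom := SepPoints.isSeparated_grp H'
  haveI : IsMonHom (AntiSmooth.rel p n H) := hiq ▸ inferInstanceAs (IsMonHom (i ≫ q))
  haveI hrs : Surjective (AntiSmooth.rel p n H).left := ⟨fun y => by
    refine ⟨fr y, fr.isOpenEmbedding.injective ?_⟩
    rw [← Scheme.Hom.comp_apply, AntiSmooth.rel_fst, AntiSmooth.frobN_apply]⟩
  haveI : Surjective q.left := ⟨fun y => by
    obtain ⟨x, hx⟩ := (AntiSmooth.rel p n H).left.surjective y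
    exact ⟨i.left x, by rw [← comp_left_apply, hiq, hx]⟩⟩
  haveI : Flat q.left := flat_hom_of_isReduced q
  haveI : IsLocallyNoetherian H'.left := LocallyOfFiniteType.isLocallyNoetherian H'.hom
  haveI : LocallyOfFiniteType q.left := by
    have : LocallyOfFiniteType (q.left ≫ H'.hom) := by rw [Over.w]; infer_instance
    exact locallyOfFiniteType_of_comp q.left H'.hom
  haveI : LocallyOfFinitePresentation q.left := inferInstance
  haveI : Smooth H'.hom := smooth_of_perfectField H'
  have hH : synMor H'.hom := (isSyntomicMor_iff _).1 (Groth.Agent.S9699.result H'.hom)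
  obtain ⟨K, κ, hκ, hKq⟩ : ∃ (K : Over (Spec (CommRingCat.of k))) (κ : K ⟶ N),
      IsClosedImmersion κ.left ∧ IsPullback κ (toUnit K) q η[H'] := by
    have h := IsPullback.of_hasPullback q η[H']
    refine ⟨_, pullback.fst q η[H'], ?_, by rwa [toUnit_unique (pullback.snd q η[H']) (toUnit _)] at h⟩
    haveI : IsClosedImmersion η[H'].left := by
      haveI : IsClosedImmersion (η[H'].left ≫ H'.hom) := by
        rw [Over.w η[H']]; exact inferInstanceAs (IsClosedImmersion (𝟙 (Spec (CommRingCat.of k))))
      exact IsClosedImmersion.of_comp η[H'].left H'.hom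
    exact MorphismProperty.of_isPullback (P := @IsClosedImmersion) (isPullback_left h).flip inferInstance
  haveI : Mono κ := (Over.forget _).mono_of_mono_map (show Mono κ.left from inferInstance)
  obtain ⟨_, _⟩ := exists_grpObj_of_isKernel hKq
  haveI : LocallyOfFiniteType K.hom := by rw [← Over.w κ]; infer_instance
  haveI : QuasiCompact K.hom := by rw [← Over.w κ]; infer_instance
  haveI : Subsingleton K.left := ⟨fun a b => by
    apply κ.left.isClosedEmbedding.injective
    have h : ∀ c : K.left, q.left (κ.left c) = η[H'].left (IsLocalRing.closedPoint k) := fun c => by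
      rw [← comp_left_apply, hKq.w, comp_left_apply]
      congr 1
      exact Subsingleton.elim (α := PrimeSpectrum k) _ _
    obtain ⟨a', ha'⟩ := i.left.surjective (κ.left a)
    obtain ⟨b', hb'⟩ := i.left.surjective (κ.left b)
    have h2 : (AntiSmooth.rel p n H).left a' = (AntiSmooth.rel p n H).left b' := by
      rw [← hiq, comp_left_apply, comp_left_apply, ha', hb', h, h]
    have h3 := congrArg fr h2
    rw [← Scheme.Hom.comp_apply, AntiSmooth.rel_fst, ← Scheme.Hom.comp_apply, AntiSmooth.rel_fst,
      AntiSmooth.frobN_apply, AntiSmooth.frobN_apply] at h3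
    rw [← ha', ← hb', h3]⟩
  have hK : synMor K.hom := synMor_onePoint p K
  let mu : H ⊗ K ⟶ N := (fst H K ≫ i) * (snd H K ≫ κ)
  have hκq : κ ≫ q = 1 := (isKernel_factors_iff hKq κ).1 ⟨𝟙 K, Category.id_comp _⟩
  have hsq : IsPullback mu (fst H K) q (i ≫ q) := by
    have w : mu ≫ q = fst H K ≫ i ≫ q := by
      simp only [mu, MonObj.mul_comp, Category.assoc, hκq, MonObj.comp_one, _root_.mul_one]
    have hex : ∀ s : PullbackCone q (i ≫ q), ∃ a : s.pt ⟶ K, a ≫ κ = (s.snd ≫ i)⁻¹ * s.fst := fun s =>
      (isKernel_factors_iff hKq _).2 (by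
        rw [MonObj.mul_comp, GrpObj.inv_comp, s.condition, Category.assoc, inv_mul_cancel])
    choose a ha using hex
    refine IsPullback.of_isLimit' ⟨w⟩ (PullbackCone.IsLimit.mk _ (fun s => lift s.snd (a s))
      (fun s => ?_) (fun s => lift_fst _ _) fun s f hf₁ hf₂ => ?_)
    · simp only [mu, MonObj.comp_mul, lift_fst_assoc, lift_snd_assoc, ha, mul_inv_cancel_left]
    · apply CartesianMonoidalCategory.hom_ext
      · rw [lift_fst]; exact hf₂
      · rw [lift_snd, ← cancel_mono κ, ha, ← hf₁, ← hf₂]
        simp only [mu, MonObj.comp_mul, Category.assoc, inv_mul_cancel_left]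
  have hfst : synMor (fst H K).left := by
    show synMor (pullback.fst H.hom K.hom)
    exact MorphismProperty.pullback_fst _ _ hK
  have hsql := isPullback_left hsq
  have hrel : (i ≫ q).left = (AntiSmooth.rel p n H).left := by rw [hiq]
  have hq' : synMor q.left := by
    refine synMor_of_flat_of_fibres q.left fun y => ?_
    obtain ⟨h', hh'⟩ := (AntiSmooth.rel p n H).left.surjective y
    have hy : (i ≫ q).left h' = y := by rw [hrel]; exact hh'
    subst hy
    let φ := ((i ≫ q).left.residueFieldMap h').hom
    haveI : LocallyOfFiniteType (q.left.fiberToSpecResidueField ((i ≫ q).left h')) :=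
      MorphismProperty.pullback_snd _ _ ‹LocallyOfFiniteType q.left›
    refine synMor_of_field_extension φ _ ?_
    have e : Spec.map (CommRingCat.ofHom φ) ≫ H'.left.fromSpecResidueField ((i ≫ q).left h') =
        H.left.fromSpecResidueField h' ≫ (i ≫ q).left := by
      rw [CommRingCat.ofHom_hom]
      exact Scheme.Hom.SpecMap_residueFieldMap_fromSpecResidueField _ _
    have h1 : IsPullback (pullback.fst (q.left.fiberToSpecResidueField _) (Spec.map (CommRingCat.ofHom φ)) ≫
        pullback.fst q.left _) (pullback.snd (q.left.fiberToSpecResidueField _) (Spec.map (CommRingCat.ofHom φ)))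
        q.left (H.left.fromSpecResidueField h' ≫ (i ≫ q).left) := by
      rw [← e]
      exact (IsPullback.of_hasPullback _ _).paste_horiz (IsPullback.of_hasPullback _ _)
    let a := hsql.lift (pullback.fst (q.left.fiberToSpecResidueField _) (Spec.map (CommRingCat.ofHom φ)) ≫
        pullback.fst q.left _) (pullback.snd (q.left.fiberToSpecResidueField _) (Spec.map (CommRingCat.ofHom φ)) ≫
          H.left.fromSpecResidueField h') (by rw [Category.assoc _ (H.left.fromSpecResidueField h')]; exact h1.w)
    have h2 : IsPullback a (pullback.snd (q.left.fiberToSpecResidueField _) (Spec.map (CommRingCat.ofHom φ)))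
        (fst H K).left (H.left.fromSpecResidueField h') :=
      IsPullback.of_right (by rw [IsPullback.lift_fst]; exact h1) (IsPullback.lift_snd _ _ _ _) hsql
    exact MorphismProperty.of_isPullback (P := synMor) h2 hfst
  rw [← Over.w q]
  exact MorphismProperty.comp_mem _ _ _ hq' hH

/-- Group schemes of finite type over a field are syntomic. -/
theorem synMor_of_field {k : Type u} [Field k] (N : Over (Spec (CommRingCat.of k))) [GrpObj N]
    [LocallyOfFiniteType N.hom] [QuasiCompact N.hom] : synMor N.hom := by
  let g : Spec (CommRingCat.of (AlgebraicClosure k)) ⟶ Spec (CommRingCat.of k) :=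
    Spec.map (CommRingCat.ofHom (algebraMap k (AlgebraicClosure k)))
  let Nb : Over (Spec (CommRingCat.of (AlgebraicClosure k))) := Red.bc g N
  letI : GrpObj Nb := Red.grpObj_bc g N
  haveI : LocallyOfFiniteType Nb.hom := MorphismProperty.pullback_snd _ _ ‹LocallyOfFiniteType N.hom›
  haveI : QuasiCompact Nb.hom := MorphismProperty.pullback_snd _ _ ‹QuasiCompact N.hom›
  exact synMor_of_field_extension _ N.hom (synMor_of_isAlgClosed Nb)

/-- Flat group schemes of finite presentation are syntomic. -/
theorem isSyntomicMor_of_flat {S : Scheme.{u}} (G : Over S) [GrpObj G] [Flat G.hom]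
    [LocallyOfFinitePresentation G.hom] [QuasiCompact G.hom] : Synt.IsSyntomicMor G.hom := by
  refine Groth.Agent.S9365.result G.hom fun s => (isSyntomicMor_iff _).2 ?_
  let F : Over (Spec (CommRingCat.of (S.residueField s))) := Red.bc (S.fromSpecResidueField s) G
  letI : GrpObj F := Red.grpObj_bc _ G
  haveI : LocallyOfFiniteType F.hom := MorphismProperty.pullback_snd _ _ inferInstance
  haveI : QuasiCompact F.hom := MorphismProperty.pullback_snd _ _ ‹QuasiCompact G.hom›
  exact synMor_of_field F

end Groth.Agent.GrpSyntomic
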