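import Groth.Agent.GrpSyntomic.Main
import Groth.Agent.GrpSch.Neutral
import Groth.Agent.GrpSch.DenseMul
import Mathlib.AlgebraicGeometry.AlgClosed.Basic

/-!
# Group schemes locally of finite type over a field are syntomic
-/

set_option autoImplicit false
set_option backward.isDefEq.respectTransparency.types false

universe u

open CategoryTheory MonoidalCategory CartesianMonoidalCategory MonObj GrpObj Limits AlgebraicGeometry

namespace Groth.Agent.GrpSyntomic

open SyntLCI GrpSch

variable {K : Type u} [Field K]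

/-- An irreducible group scheme over a field is quasi-compact. -/
theorem quasiCompact_of_irreducible (G : Over (Spec (CommRingCat.of K))) [GrpObj G] [IrreducibleSpace G.left] :
    QuasiCompact G.hom := by
  obtain ⟨_, ⟨U₀, hU₀, rfl⟩, hxU, -⟩ := G.left.isBasis_affineOpens.exists_subset_of_mem_open
    (Set.mem_univ (η[G].left (IsLocalRing.closedPoint K))) isOpen_univ
  let U : G.left.Opens := U₀
  have hU : IsAffineOpen U := hU₀
  let W : Over (Spec (CommRingCat.of K)) := Over.mk (U.ι ≫ G.hom)
  let j : W ⟶ G := Over.homMk U.ι rfl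
  haveI : IsAffine W.left := hU
  haveI : QuasiCompact W.hom := inferInstance
  haveI : QuasiCompact (fst W W).left := MorphismProperty.pullback_fst _ _ ‹QuasiCompact W.hom›
  haveI : CompactSpace (W ⊗ W).left := QuasiCompact.compactSpace_of_compactSpace (fst W W).left
  have hd : Dense (U : Set G.left) := U.isOpen.dense ⟨_, hxU⟩
  have hsurj : Function.Surjective ((j ⊗ₘ j) ≫ μ[G]).left := fun x => by
    obtain ⟨z, hz, rfl⟩ := (mul_image_dense_eq_univ G U.isOpen hd hd).symm ▸ Set.mem_univ x
    have hr := Scheme.Pullback.range_map W.hom W.hom G.hom G.hom j.left j.left (𝟙 _)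
      (by rw [Category.comp_id, Over.w j]) (by rw [Category.comp_id, Over.w j])
    have hU' : Set.range j.left = (U : Set G.left) := Scheme.Opens.range_ι U
    have hz' : z ∈ Set.range (j ⊗ₘ j).left := hr.symm ▸ (show z ∈ (fst G G).left ⁻¹' Set.range j.left ∩
      (snd G G).left ⁻¹' Set.range j.left by rw [hU']; exact hz)
    obtain ⟨w, rfl⟩ := hz'
    exact ⟨w, by rw [comp_left_apply]⟩
  haveI : CompactSpace G.left := ⟨by
    rw [← Set.range_eq_univ.2 hsurj]
    exact isCompact_range ((j ⊗ₘ j) ≫ μ[G]).left.continuous⟩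
  exact (HasAffineProperty.iff_of_isAffine (P := @QuasiCompact)).2 inferInstance

theorem synMor_of_isAlgClosed_lft [IsAlgClosed K] (G : Over (Spec (CommRingCat.of K))) [GrpObj G]
    [LocallyOfFiniteType G.hom] : synMor G.hom := by
  obtain ⟨G₀, _, i, _, _, _, hrange, _, _, _⟩ := exists_neutralComponent G
  haveI := quasiCompact_of_irreducible G₀
  have h0 : synMor G₀.hom := synMor_of_isAlgClosed G₀
  haveI : JacobsonSpace G.left := LocallyOfFiniteType.jacobsonSpace G.hom
  have key : ∀ x : G.left, ∃ (a : 𝟙_ (Over (Spec (CommRingCat.of K))) ⟶ G) (f : G₀ ⟶ G), IsOpenImmersion f.left ∧ x ∈ Set.range f.left := by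
    intro x
    obtain ⟨x₀, hx₀, hcl⟩ := nonempty_inter_closedPoints (Z := closure {x}) ⟨x, subset_closure rfl⟩
      (isClosed_closure).isLocallyClosed
    rw [mem_closedPoints_iff] at hcl
    let a : 𝟙_ (Over (Spec (CommRingCat.of K))) ⟶ G :=
      Over.homMk (pointOfClosedPoint G.hom x₀ hcl) (pointOfClosedPoint_comp _ _ _)
    let r : G ≅ G :=
      { hom := 𝟙 G * (toUnit G ≫ a)
        inv := 𝟙 G * (toUnit G ≫ a)⁻¹
        hom_inv_id := by
          rw [MonObj.comp_mul, GrpObj.comp_inv, Category.comp_id, ← Category.assoc, toUnit_unique (_ ≫ toUnit G) (toUnit G),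
            mul_inv_cancel_right]
        inv_hom_id := by
          rw [MonObj.comp_mul, Category.comp_id, ← Category.assoc, toUnit_unique (_ ≫ toUnit G) (toUnit G),
            inv_mul_cancel_right] }
    haveI : IsIso r.hom := Iso.isIso_hom r
    haveI : IsIso r.hom.left := inferInstanceAs (IsIso ((Over.forget _).map r.hom))
    refine ⟨a, i ≫ r.hom, by rw [Over.comp_left]; infer_instance, ?_⟩
    have hopen : IsOpen (Set.range (i ≫ r.hom).left) := by
      haveI : IsOpenImmersion (i ≫ r.hom).left := by rw [Over.comp_left]; infer_instance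
      exact (i ≫ r.hom).left.isOpenEmbedding.isOpen_range
    have hmem : x₀ ∈ Set.range (i ≫ r.hom).left := by
      refine ⟨η[G₀].left (IsLocalRing.closedPoint K), ?_⟩
      rw [← comp_left_apply, ← Category.assoc, IsMonHom.one_hom, MonObj.comp_mul, Category.comp_id, ← Category.assoc,
        toUnit_unique (_ ≫ toUnit G) (𝟙 _), Category.id_comp, show (η[G] : 𝟙_ _ ⟶ G) = 1 by rw [Hom.one_def, toUnit_unique (toUnit _) (𝟙 _), Category.id_comp],
        _root_.one_mul]
      exact pointOfClosedPoint_apply G.hom x₀ hcl _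
    exact (specializes_iff_mem_closure.2 hx₀).mem_open hopen hmem
  choose a f hf hxf using key
  refine (IsZariskiLocalAtSource.iff_of_iSup_eq_top (P := synMor) (fun x : G.left =>
    haveI := hf x; (f x).left.opensRange) (eq_top_iff.2 fun x _ => TopologicalSpace.Opens.mem_iSup.2 ⟨x, hxf x⟩)).2 fun x => ?_
  haveI := hf x
  rw [← MorphismProperty.cancel_left_of_respectsIso synMor (f x).left.isoOpensRange.hom,
    Scheme.Hom.isoOpensRange_hom_ι_assoc, Over.w]
  exact h0

/-- Group schemes locally of finite type over a field are syntomic. -/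
theorem synMor_of_lft (G : Over (Spec (CommRingCat.of K))) [GrpObj G] [LocallyOfFiniteType G.hom] :
    synMor G.hom := by
  let g : Spec (CommRingCat.of (AlgebraicClosure K)) ⟶ Spec (CommRingCat.of K) :=
    Spec.map (CommRingCat.ofHom (algebraMap K (AlgebraicClosure K)))
  let Gb : Over (Spec (CommRingCat.of (AlgebraicClosure K))) := Red.bc g G
  letI : GrpObj Gb := Red.grpObj_bc g G
  haveI : LocallyOfFiniteType Gb.hom := MorphismProperty.pullback_snd _ _ ‹LocallyOfFiniteType G.hom›
  exact synMor_of_field_extension _ G.hom (synMor_of_isAlgClosed_lft Gb)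

/-- Local rings of group schemes over a field are Cohen-Macaulay. -/
theorem isCohenMacaulayLocalRing_stalk (G : Over (Spec (CommRingCat.of K))) [GrpObj G] [LocallyOfFiniteType G.hom]
    (x : G.left) : LocCoh.IsCohenMacaulayLocalRing (G.left.presheaf.stalk x) := by
  obtain ⟨_, ⟨U, hU, rfl⟩, hxU, -⟩ := G.left.isBasis_affineOpens.exists_subset_of_mem_open
    (Set.mem_univ x) isOpen_univ
  have h1 := HasRingHomProperty.appLE synMor G.hom (synMor_of_lft G) ⟨⊤, isAffineOpen_top _⟩ ⟨U, hU⟩ le_top
  let φ : K →+* Γ(G.left, U) := ((Scheme.ΓSpecIso (CommRingCat.of K)).inv ≫ G.hom.appLE ⊤ U le_top).hom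
  let := φ.toAlgebra
  have h2 : Syn φ := (HasRingHomProperty.isLocal_ringHomProperty synMor).respectsIso.2 _
    (Scheme.ΓSpecIso (CommRingCat.of K)).symm.commRingCatIsoToRingEquiv h1
  have h3 := isCohenMacaulayRing_of_isLCIOver (isLCIOver_of_isSyntomic_field K Γ(G.left, U) h2)
  letI := (G.left.presheaf.germ U x hxU).hom.toAlgebra
  have : IsLocalization.AtPrime (G.left.presheaf.stalk x) (hU.primeIdealOf ⟨x, hxU⟩).asIdeal :=
    hU.isLocalization_stalk ⟨x, hxU⟩
  haveI := h3.isCohenMacaulayLocalRing_localization (hU.primeIdealOf ⟨x, hxU⟩).asIdeal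
  exact FlatLocalDepth.isCohenMacaulayLocalRing_of_ringEquiv
    (IsLocalization.algEquiv (hU.primeIdealOf ⟨x, hxU⟩).asIdeal.primeCompl
      (Localization.AtPrime (hU.primeIdealOf ⟨x, hxU⟩).asIdeal) (G.left.presheaf.stalk x)).toRingEquiv

end Groth.Agent.GrpSyntomic
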